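import Groth.Agent.H53.Deform.FinLocFree
import Groth.Agent.H53.ThickChart
import Groth.Agent.H51.SpAffine

/-!
# Finite morphisms deform along cartesian morphisms of thickenings
-/

set_option autoImplicit false
universe u
open CategoryTheory CategoryTheory.Limits AlgebraicGeometry Opposite
open AlgSp

namespace Groth.Agent.H53.Deform

variable {S : Scheme.{u}}

theorem isFiniteMor_iff_repWith {X Y : Sp S} (f : X ⟶ Y) :
    IsFiniteMor f ↔ RepWith @IsFinite f :=
  Groth.Agent.H51.affine_test_iff_repWith @IsFinite (fun g hg => by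
    have : IsFinite g := hg
    infer_instance) f

theorem isFinite_le_diagonal_isClosedImmersion :
    (@IsFinite : MorphismProperty Scheme.{u}) ≤
      MorphismProperty.diagonal (@IsClosedImmersion : MorphismProperty Scheme.{u}) := by
  intro A B k hk
  have : IsFinite k := hk
  have : IsSeparated k := inferInstance
  exact this.1

variable {X X' Y Y' : AlgSp.Space S} (iX : X ⟶ X') (iY : Y ⟶ Y') (f : X ⟶ Y) (f' : X' ⟶ Y')

include iX iY in
/-- For a cartesian morphism of thickenings with `f'` locally of finite type: if `f` is finite then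
so is `f'`. -/
theorem repWith_isFinite_of_thick (hiX : IsThickMor iX.hom) (hiY : IsThickMor iY.hom)
    (w : iX ≫ f' = f ≫ iY) (hcart : IsPullback iX.hom f.hom f'.hom iY.hom)
    (hft' : LocP @LocallyOfFiniteType f'.hom) (hf : RepWith @IsFinite f.hom) :
    RepWith @IsFinite f'.hom := by
  have hsep : IsSeparatedMor f.hom :=
    (Groth.Agent.H49.repWith_diagonal_iff @IsClosedImmersion f.hom hf.1).2
      (Groth.Agent.H49.repWith_of_le isFinite_le_diagonal_isClosedImmersion hf)
  have hqf : LocP (@LocallyQuasiFinite ⊓ @LocallyOfFiniteType) f.hom := by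
    have := Groth.Agent.H50.goodClass_lqf.{u}.comp
    refine Groth.Agent.H50.locP_of_repWith _ Groth.Agent.H50.goodClass_lqf.etale_le f.hom
      (Groth.Agent.H49.repWith_of_le ?_ hf)
    intro A B k hk
    have : IsFinite k := hk
    exact ⟨inferInstance, inferInstance⟩
  have hqf' : LocP (@LocallyQuasiFinite ⊓ @LocallyOfFiniteType) f'.hom :=
    (Groth.Agent.H53.locP_lqf_iff_of_thick hiX hiY hcart X'.property Y.property Y'.property
      hft').1 hqf
  have hsep' : IsSeparatedMor f'.hom :=
    ((Groth.Agent.S10589.result iX iY f f' hiX hiY w).1).1 hsep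
  have hrep : Representable f'.hom := by
    intro V' b'
    have sqF := IsPullback.of_hasPullback f'.hom b'
    have hFalg : IsAlgSpace (pullback f'.hom b') :=
      Groth.Agent.H49.isAlgSpace_of_isPullback sqF Y'.property.diag X'.property
        (IsAlgSpace.yon_obj V')
    have hsepF : IsSeparatedMor (pullback.snd f'.hom b') :=
      Groth.Agent.H53.ZMT.isSeparatedMor_of_isPullback sqF hsep'
    have hqfF : LocP (@LocallyQuasiFinite ⊓ @LocallyOfFiniteType) (pullback.snd f'.hom b') :=
      Groth.Agent.H50.goodClass_lqf.locP_of_isPullback X'.property Y'.property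
        (IsAlgSpace.yon_obj V') f'.hom b' (pullback.fst f'.hom b') (pullback.snd f'.hom b') sqF hqf'
    obtain ⟨G, ⟨e⟩⟩ := Groth.Agent.H53.ZMT.exists_iso_yon_of_lqf_separated hFalg
      (pullback.snd f'.hom b') hsepF hqfF
    obtain ⟨φ, hφ⟩ := (yon S).map_surjective (e.hom ≫ pullback.snd f'.hom b')
    refine ⟨G, φ, e.hom ≫ pullback.fst f'.hom b', ?_⟩
    rw [hφ]
    exact IsPullback.of_iso sqF e.symm (Iso.refl _) (Iso.refl _) (Iso.refl _) (by simp) (by simp)
      (by simp) (by simp)
  have hR : RepWith @LocallyOfFiniteType f'.hom :=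
    Groth.Agent.H50.goodClass_lft.repWith_of_locP Y'.property f'.hom hrep hft'
  rw [repWith_iff]
  refine ⟨hrep, ?_⟩
  intro U'' V' b' a'' h'' sq'
  have h2 : LocallyOfFiniteType h''.left := hR.property b' a'' h'' sq'
  obtain ⟨U, V, iU, iV, h, aU, bV, hiU, hiV, top, face⟩ :=
    exists_thin_square hiX hiY hcart a'' b' h'' sq'
  have h4 : IsFinite h.left := hf.property bV aU h top
  have h5 : IsIntegralHom h''.left :=
    (Groth.Agent.S1305.result iU.left iV.left h.left h''.left hiU hiV face.w).1 inferInstance
  exact (IsFinite.iff_isIntegralHom_and_locallyOfFiniteType _).2 ⟨h5, inferInstance⟩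

end Groth.Agent.H53.Deform
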