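import Groth.Agent.H53.Deform.IsoOpen
import Groth.Agent.H53.ZMT.LqfSep2
import Groth.Agent.H53.ZMT.SpLemmas
import Groth.Agent.H50.LocPBase
import Groth.Agent.H49.AlgSpDiag
import Groth.Agent.H49.AlgSpDiagProps
import Groth.Agent.S1305

/-!
# Deformation of finite locally free morphisms along finite order thickenings
-/

set_option autoImplicit false
universe u
open CategoryTheory CategoryTheory.Limits AlgebraicGeometry Opposite
open AlgSp

namespace Groth.Agent.H53.Deform

variable {S : Scheme.{u}}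

/-- The thin square under a represented pullback of the thick morphism. -/
theorem exists_thin_square {X X' Y Y' : Sp S} {iX : X ⟶ X'} {iY : Y ⟶ Y'} {f : X ⟶ Y}
    {f' : X' ⟶ Y'} (hiX : IsThickMor iX) (hiY : IsThickMor iY)
    (hcart : IsPullback iX f f' iY) {U'' V' : Over S} (a'' : (yon S).obj U'' ⟶ X')
    (b' : (yon S).obj V' ⟶ Y') (h'' : U'' ⟶ V') (sq' : IsPullback a'' ((yon S).map h'') f' b') :
    ∃ (U V : Over S) (iU : U ⟶ U'') (iV : V ⟶ V') (h : U ⟶ V) (aU : (yon S).obj U ⟶ X)
      (bV : (yon S).obj V ⟶ Y), thick iU.left ∧ thick iV.left ∧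
        IsPullback aU ((yon S).map h) f bV ∧ IsPullback iU.left h.left h''.left iV.left := by
  obtain ⟨V, bV, iV, sqV, hiV⟩ : ∃ (V : Over S) (bV : (yon S).obj V ⟶ Y) (iV : V ⟶ V'),
      IsPullback bV ((yon S).map iV) iY b' ∧ thick iV.left :=
    ⟨_, _, _, hiY.rep.isPullback b', hiY.property_snd b'⟩
  obtain ⟨U, aU, iU, sqU, hiU⟩ : ∃ (U : Over S) (aU : (yon S).obj U ⟶ X) (iU : U ⟶ U''),
      IsPullback aU ((yon S).map iU) iX a'' ∧ thick iU.left :=
    ⟨_, _, _, hiX.rep.isPullback a'', hiX.property_snd a''⟩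
  have hw : (aU ≫ f) ≫ iY = (yon S).map (iU ≫ h'') ≫ b' := by
    rw [Category.assoc, ← hcart.w, ← Category.assoc, sqU.w, Category.assoc, sq'.w,
      Functor.map_comp, Category.assoc]
  obtain ⟨k, hk1, hk2⟩ := sqV.exists_lift _ _ hw
  obtain ⟨h, rfl⟩ := (yon S).map_surjective k
  -- the face over the thickenings
  have outer : IsPullback (aU ≫ f) ((yon S).map iU) iY (a'' ≫ f') := sqU.paste_horiz hcart.flip
  rw [sq'.w, ← hk1] at outer
  have face : IsPullback ((yon S).map h) ((yon S).map iU) ((yon S).map iV) ((yon S).map h'') :=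
    IsPullback.of_right outer (by rw [hk2, Functor.map_comp]) sqV
  have face' : IsPullback h iU iV h'' :=
    IsPullback.of_map (yon S) ((yon S).map_injective (by
      rw [Functor.map_comp, Functor.map_comp]; exact face.w)) face
  have face'' := (face'.map (Over.forget S)).flip
  -- the top face
  have vert : IsPullback aU ((yon S).map iU ≫ (yon S).map h'') (iX ≫ f') b' := sqU.paste_vert sq'
  have e1 : (yon S).map iU ≫ (yon S).map h'' = (yon S).map h ≫ (yon S).map iV := by
    rw [hk2, Functor.map_comp]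
  rw [e1, hcart.w] at vert
  have top : IsPullback aU ((yon S).map h) f bV := IsPullback.of_bot vert hk1.symm sqV
  exact ⟨U, V, iU, iV, h, aU, bV, hiU, hiV, top, face''⟩

section Space

variable {X X' Y Y' B B' : AlgSp.Space S} (iX : X ⟶ X') (iY : Y ⟶ Y') (iB : B ⟶ B')
  (f : X ⟶ Y) (f' : X' ⟶ Y') (g : Y ⟶ B) (g' : Y' ⟶ B')

theorem finLocFree_le_diagonal_isClosedImmersion :
    (finLocFree : MorphismProperty Scheme.{u}) ≤
      MorphismProperty.diagonal (@IsClosedImmersion : MorphismProperty Scheme.{u}) := by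
  intro A B k hk
  have : IsFinite k := hk.1
  have : IsSeparated k := inferInstance
  exact this.1

include iX iY iB g g' in
theorem isFinLocFreeMor_of_finThick
    (hcX : IsPullback iX.hom (f ≫ g).hom (f' ≫ g').hom iB.hom)
    (hcY : IsPullback iY.hom g.hom g'.hom iB.hom) (w : iX ≫ f' = f ≫ iY)
    (hB : AlgSp.IsFinThickMor iB.hom) (hflat : AlgSp.LocP @Flat (f' ≫ g').hom)
    (hf : IsFinLocFreeMor f.hom) : IsFinLocFreeMor f'.hom := by
  have hthickB : AlgSp.IsThickMor iB.hom := by
    obtain ⟨n, h1, -⟩ := hB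
    exact h1
  have hiX : AlgSp.IsThickMor iX.hom := Groth.Agent.H53.isThickMor_of_isPullback hcX.flip hthickB
  have hiY : AlgSp.IsThickMor iY.hom := Groth.Agent.H53.isThickMor_of_isPullback hcY.flip hthickB
  have w' : iX.hom ≫ f'.hom = f.hom ≫ iY.hom := congrArg (fun t => t.hom) w
  have hcart : IsPullback iX.hom f.hom f'.hom iY.hom :=
    (IsPullback.of_right hcX.flip w'.symm hcY.flip).flip
  -- properties of `f`
  have hsep : IsSeparatedMor f.hom :=
    (Groth.Agent.H49.repWith_diagonal_iff @IsClosedImmersion f.hom hf.1).2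
      (Groth.Agent.H49.repWith_of_le finLocFree_le_diagonal_isClosedImmersion hf)
  have hqf : LocP (@LocallyQuasiFinite ⊓ @LocallyOfFiniteType) f.hom := by
    have := Groth.Agent.H50.goodClass_lqf.{u}.comp
    refine Groth.Agent.H50.locP_of_repWith _ Groth.Agent.H50.goodClass_lqf.etale_le f.hom
      (Groth.Agent.H49.repWith_of_le ?_ hf)
    intro A B k hk
    have : IsFinite k := hk.1
    exact ⟨inferInstance, inferInstance⟩
  have hfl : LocP @Flat f.hom := by
    refine Groth.Agent.H50.locP_of_repWith _ Groth.Agent.H50.goodClass_flat.etale_le f.hom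
      (Groth.Agent.H49.repWith_of_le ?_ hf)
    intro A B k hk
    exact hk.2.1
  have hfp : LocP @LocallyOfFinitePresentation f.hom := by
    refine Groth.Agent.H50.locP_of_repWith _ Groth.Agent.H50.goodClass_lfp.etale_le f.hom
      (Groth.Agent.H49.repWith_of_le ?_ hf)
    intro A B k hk
    exact hk.2.2
  -- transfer to `f'`
  have H := Groth.Agent.S10596.result iX iY iB f f' g g' hcX hcY w hB hflat 0
  have hfl' : LocP @Flat f'.hom := H.2.1.1 hfl
  have hqf' : LocP (@LocallyQuasiFinite ⊓ @LocallyOfFiniteType) f'.hom := H.2.2.2.1.1 hqf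
  have hfp' : LocP @LocallyOfFinitePresentation f'.hom := H.2.2.2.2.1.1 hfp
  have hsep' : IsSeparatedMor f'.hom :=
    ((Groth.Agent.S10589.result iX iY f f' hiX hiY w).1).1 hsep
  -- `f'` is representable
  have hrep : Representable f'.hom := by
    intro V' b'
    have sqF := IsPullback.of_hasPullback f'.hom b'
    have hFalg : IsAlgSpace (pullback f'.hom b') :=
      Groth.Agent.H49.isAlgSpace_of_isPullback sqF Y'.property.diag X'.property
        (IsAlgSpace.yon_obj V')
    have hsepF : IsSeparatedMor (pullback.snd f'.hom b') :=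
      Groth.Agent.H53.ZMT.isSeparatedMor_of_isPullback sqF hsep'
    have hqfF : LocP (@LocallyQuasiFinite ⊓ @LocallyOfFiniteType) (pullback.snd f'.hom b') :=
      Groth.Agent.H50.goodClass_lqf.locP_of_isPullback X'.property Y'.property
        (IsAlgSpace.yon_obj V') f'.hom b' (pullback.fst f'.hom b') (pullback.snd f'.hom b') sqF hqf'
    obtain ⟨G, ⟨e⟩⟩ := Groth.Agent.H53.ZMT.exists_iso_yon_of_lqf_separated hFalg
      (pullback.snd f'.hom b') hsepF hqfF
    obtain ⟨φ, hφ⟩ := (yon S).map_surjective (e.hom ≫ pullback.snd f'.hom b')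
    refine ⟨G, φ, e.hom ≫ pullback.fst f'.hom b', ?_⟩
    rw [hφ]
    exact IsPullback.of_iso sqF e.symm (Iso.refl _) (Iso.refl _) (Iso.refl _) (by simp) (by simp)
      (by simp) (by simp)
  have hR1 : RepWith @Flat f'.hom :=
    Groth.Agent.H50.goodClass_flat.repWith_of_locP Y'.property f'.hom hrep hfl'
  have hR2 : RepWith @LocallyOfFinitePresentation f'.hom :=
    Groth.Agent.H50.goodClass_lfp.repWith_of_locP Y'.property f'.hom hrep hfp'
  rw [IsFinLocFreeMor, repWith_iff]
  refine ⟨hrep, ?_⟩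
  intro U'' V' b' a'' h'' sq'
  have h1 : Flat h''.left := hR1.property b' a'' h'' sq'
  have h2 : LocallyOfFinitePresentation h''.left := hR2.property b' a'' h'' sq'
  obtain ⟨U, V, iU, iV, h, aU, bV, hiU, hiV, top, face⟩ :=
    exists_thin_square hiX hiY hcart a'' b' h'' sq'
  have h3 : finLocFree h.left := hf.property bV aU h top
  have h4 : IsFinite h.left := h3.1
  have h5 : IsIntegralHom h''.left :=
    (Groth.Agent.S1305.result iU.left iV.left h.left h''.left hiU hiV face.w).1 inferInstance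
  have h6 : IsFinite h''.left :=
    (IsFinite.iff_isIntegralHom_and_locallyOfFiniteType _).2 ⟨h5, inferInstance⟩
  exact ⟨h6, h1, h2⟩

include iX iY iB g g' in
theorem isFinLocFreeOfDegMor_of_finThick (d : ℕ)
    (hcX : IsPullback iX.hom (f ≫ g).hom (f' ≫ g').hom iB.hom)
    (hcY : IsPullback iY.hom g.hom g'.hom iB.hom) (w : iX ≫ f' = f ≫ iY)
    (hB : AlgSp.IsFinThickMor iB.hom) (hflat : AlgSp.LocP @Flat (f' ≫ g').hom)
    (hf : IsFinLocFreeOfDegMor d f.hom) : IsFinLocFreeOfDegMor d f'.hom := by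
  have hthickB : AlgSp.IsThickMor iB.hom := by
    obtain ⟨n, h1, -⟩ := hB
    exact h1
  have hiX : AlgSp.IsThickMor iX.hom := Groth.Agent.H53.isThickMor_of_isPullback hcX.flip hthickB
  have hiY : AlgSp.IsThickMor iY.hom := Groth.Agent.H53.isThickMor_of_isPullback hcY.flip hthickB
  have w' : iX.hom ≫ f'.hom = f.hom ≫ iY.hom := congrArg (fun t => t.hom) w
  have hcart : IsPullback iX.hom f.hom f'.hom iY.hom :=
    (IsPullback.of_right hcX.flip w'.symm hcY.flip).flip
  have hf0 : IsFinLocFreeMor f.hom :=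
    Groth.Agent.H49.repWith_of_le (fun _ _ k hk => hk.1) hf
  have hf0' : IsFinLocFreeMor f'.hom :=
    isFinLocFreeMor_of_finThick iX iY iB f f' g g' hcX hcY w hB hflat hf0
  rw [IsFinLocFreeOfDegMor, repWith_iff]
  refine ⟨hf0'.1, ?_⟩
  intro U'' V' b' a'' h'' sq'
  have h1 : finLocFree h''.left := hf0'.property b' a'' h'' sq'
  refine ⟨h1, fun y => ?_⟩
  obtain ⟨U, V, iU, iV, h, aU, bV, hiU, hiV, top, face⟩ :=
    exists_thin_square hiX hiY hcart a'' b' h'' sq'
  have h3 : finLocFreeOfDeg d h.left := hf.property bV aU h top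
  have : IsFinite h''.left := h1.1
  have : Flat h''.left := h1.2.1
  have hs : Surjective iV.left := hiV.2
  obtain ⟨v, rfl⟩ := hs.surj y
  rw [← Scheme.Hom.finrank_of_isPullback iU.left h.left h''.left iV.left face v]
  exact h3.2 v

end Space

end Groth.Agent.H53.Deform
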