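import Groth.Agent.H53.Deform.Finite
import Groth.Agent.S1313
import Groth.Agent.S1316

/-!
# Closed immersions and immersions deform along cartesian morphisms of thickenings
-/

set_option autoImplicit false
universe u
open CategoryTheory CategoryTheory.Limits AlgebraicGeometry Opposite
open AlgSp

namespace Groth.Agent.H53.Deform

variable {S : Scheme.{u}}

variable {X X' Y Y' : AlgSp.Space S} (iX : X ⟶ X') (iY : Y ⟶ Y') (f : X ⟶ Y) (f' : X' ⟶ Y')

include iX iY in
/-- General principle: a property of separated locally quasi-finite morphisms of schemes that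
deforms along cartesian morphisms of thickenings of schemes (both morphisms locally of finite
type) deforms along cartesian morphisms of thickenings of algebraic spaces. -/
theorem repWith_of_thick_of_scheme {P : MorphismProperty Scheme.{u}}
    (hP1 : P ≤ MorphismProperty.diagonal (@IsClosedImmersion : MorphismProperty Scheme.{u}))
    (hP2 : P ≤ (@LocallyQuasiFinite ⊓ @LocallyOfFiniteType : MorphismProperty Scheme.{u}))
    (hdef : ∀ {A A' C C' : Scheme.{u}} (iA : A ⟶ A') (iC : C ⟶ C') (h : A ⟶ C) (h' : A' ⟶ C'),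
      thick iA → thick iC → IsPullback iA h h' iC → LocallyOfFiniteType h →
      LocallyOfFiniteType h' → P h → P h')
    (hiX : IsThickMor iX.hom) (hiY : IsThickMor iY.hom)
    (w : iX ≫ f' = f ≫ iY) (hcart : IsPullback iX.hom f.hom f'.hom iY.hom)
    (hft' : LocP @LocallyOfFiniteType f'.hom) (hf : RepWith P f.hom) :
    RepWith P f'.hom := by
  have hsep : IsSeparatedMor f.hom :=
    (Groth.Agent.H49.repWith_diagonal_iff @IsClosedImmersion f.hom hf.1).2
      (Groth.Agent.H49.repWith_of_le hP1 hf)
  have hqf : LocP (@LocallyQuasiFinite ⊓ @LocallyOfFiniteType) f.hom := by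
    have := Groth.Agent.H50.goodClass_lqf.{u}.comp
    exact Groth.Agent.H50.locP_of_repWith _ Groth.Agent.H50.goodClass_lqf.etale_le f.hom
      (Groth.Agent.H49.repWith_of_le hP2 hf)
  have hqf' : LocP (@LocallyQuasiFinite ⊓ @LocallyOfFiniteType) f'.hom :=
    (Groth.Agent.H53.locP_lqf_iff_of_thick hiX hiY hcart X'.property Y.property Y'.property
      hft').1 hqf
  have hsep' : IsSeparatedMor f'.hom :=
    ((Groth.Agent.S10589.result iX iY f f' hiX hiY w).1).1 hsep
  have hrep : Representable f'.hom := by
    intro V' b'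
    have sqF := IsPullback.of_hasPullback f'.hom b'
    have hFalg : IsAlgSpace (pullback f'.hom b') :=
      Groth.Agent.H49.isAlgSpace_of_isPullback sqF Y'.property.diag X'.property
        (IsAlgSpace.yon_obj V')
    have hsepF : IsSeparatedMor (pullback.snd f'.hom b') :=
      Groth.Agent.H53.ZMT.isSeparatedMor_of_isPullback sqF hsep'
    have hqfF : LocP (@LocallyQuasiFinite ⊓ @LocallyOfFiniteType) (pullback.snd f'.hom b') :=
      Groth.Agent.H50.goodClass_lqf.locP_of_isPullback X'.property Y'.property
        (IsAlgSpace.yon_obj V') f'.hom b' (pullback.fst f'.hom b') (pullback.snd f'.hom b') sqF hqf'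
    obtain ⟨G, ⟨e⟩⟩ := Groth.Agent.H53.ZMT.exists_iso_yon_of_lqf_separated hFalg
      (pullback.snd f'.hom b') hsepF hqfF
    obtain ⟨φ, hφ⟩ := (yon S).map_surjective (e.hom ≫ pullback.snd f'.hom b')
    refine ⟨G, φ, e.hom ≫ pullback.fst f'.hom b', ?_⟩
    rw [hφ]
    exact IsPullback.of_iso sqF e.symm (Iso.refl _) (Iso.refl _) (Iso.refl _) (by simp) (by simp)
      (by simp) (by simp)
  have hR : RepWith @LocallyOfFiniteType f'.hom :=
    Groth.Agent.H50.goodClass_lft.repWith_of_locP Y'.property f'.hom hrep hft'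
  rw [repWith_iff]
  refine ⟨hrep, ?_⟩
  intro U'' V' b' a'' h'' sq'
  have h2 : LocallyOfFiniteType h''.left := hR.property b' a'' h'' sq'
  obtain ⟨U, V, iU, iV, h, aU, bV, hiU, hiV, top, face⟩ :=
    exists_thin_square hiX hiY hcart a'' b' h'' sq'
  have h4 : P h.left := hf.property bV aU h top
  exact hdef iU.left iV.left h.left h''.left hiU hiV face (hP2 _ h4).2 h2 h4

theorem isClosedImmersion_le_diagonal :
    (@IsClosedImmersion : MorphismProperty Scheme.{u}) ≤
      MorphismProperty.diagonal (@IsClosedImmersion : MorphismProperty Scheme.{u}) := by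
  intro A B k hk
  have : IsClosedImmersion k := hk
  have : IsSeparated k := inferInstance
  exact this.1

theorem isImmersion_le_diagonal :
    (@IsImmersion : MorphismProperty Scheme.{u}) ≤
      MorphismProperty.diagonal (@IsClosedImmersion : MorphismProperty Scheme.{u}) := by
  intro A B k hk
  have : IsImmersion k := hk
  have : IsSeparated k := inferInstance
  exact this.1

include iX iY in
theorem repWith_isClosedImmersion_of_thick (hiX : IsThickMor iX.hom) (hiY : IsThickMor iY.hom)
    (w : iX ≫ f' = f ≫ iY) (hcart : IsPullback iX.hom f.hom f'.hom iY.hom)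
    (hft' : LocP @LocallyOfFiniteType f'.hom) (hf : RepWith @IsClosedImmersion f.hom) :
    RepWith @IsClosedImmersion f'.hom := by
  refine repWith_of_thick_of_scheme iX iY f f' isClosedImmersion_le_diagonal ?_ ?_ hiX hiY w hcart
    hft' hf
  · intro A B k hk
    have : IsClosedImmersion k := hk
    exact ⟨inferInstance, inferInstance⟩
  · intro A A' C C' iA iC h h' hiA hiC sq hl hl' hh
    have := hl
    have := hl'
    exact (Groth.Agent.S1313.result iA iC h h' hiC sq).1 hh

include iX iY in
theorem repWith_isImmersion_of_thick (hiX : IsThickMor iX.hom) (hiY : IsThickMor iY.hom)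
    (w : iX ≫ f' = f ≫ iY) (hcart : IsPullback iX.hom f.hom f'.hom iY.hom)
    (hft' : LocP @LocallyOfFiniteType f'.hom) (hf : RepWith @IsImmersion f.hom) :
    RepWith @IsImmersion f'.hom := by
  refine repWith_of_thick_of_scheme iX iY f f' isImmersion_le_diagonal ?_ ?_ hiX hiY w hcart
    hft' hf
  · intro A B k hk
    have : IsImmersion k := hk
    exact ⟨inferInstance, inferInstance⟩
  · intro A A' C C' iA iC h h' hiA hiC sq hl hl' hh
    have := hl
    have := hl'
    exact (Groth.Agent.S1316.result iA iC h h' hiC sq).1 hh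

include iX iY in
/-- Proper morphisms along morphisms of thickenings, given local finite type on both sides. -/
theorem isProperMor_iff_of_thick (hiX : IsThickMor iX.hom) (hiY : IsThickMor iY.hom)
    (w : iX ≫ f' = f ≫ iY) (hft : LocP @LocallyOfFiniteType f.hom → LocP @LocallyOfFiniteType f'.hom)
    (hft' : LocP @LocallyOfFiniteType f'.hom → LocP @LocallyOfFiniteType f.hom) :
    IsProperMor f.hom ↔ IsProperMor f'.hom := by
  have H1 := Groth.Agent.S10587.result iX iY f f' hiX hiY w
  have H2 := Groth.Agent.S10589.result iX iY f f' hiX hiY w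
  constructor
  · rintro ⟨h1, ⟨h0, h2⟩, h3⟩
    exact ⟨H2.1.1 h1, ⟨hft h0, H1.2.1.1 h2⟩, H1.2.2.1.1 h3⟩
  · rintro ⟨h1, ⟨h0, h2⟩, h3⟩
    exact ⟨H2.1.2 h1, ⟨hft' h0, H1.2.1.2 h2⟩, H1.2.2.1.2 h3⟩

end Groth.Agent.H53.Deform
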