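import Groth.Agent.S10596
import Groth.Agent.S10587
import Groth.Agent.S10589
import Groth.Agent.H51.SpEtMono
import Groth.Agent.H51.SpOpen
import Groth.Agent.H53.ZMT.MonoUnram
import Groth.Agent.H53.LargestOpenInst

/-!
# Deformation of isomorphisms, open immersions and monomorphisms along finite order thickenings

Situation of Stacks 0BPJ (spaces version): `iB : B ⟶ B'` a finite order thickening, `X' ⟶ Y' ⟶ B'`
with `X'` flat over `B'`, and `X ⟶ Y ⟶ B` the base change.
-/

set_option autoImplicit false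
universe u
open CategoryTheory CategoryTheory.Limits AlgebraicGeometry Opposite
open AlgSp

namespace Groth.Agent.H53.Deform

variable {S : Scheme.{u}}

section Space

variable {X X' Y Y' B B' : AlgSp.Space S} (iX : X ⟶ X') (iY : Y ⟶ Y') (iB : B ⟶ B')
  (f : X ⟶ Y) (f' : X' ⟶ Y') (g : Y ⟶ B) (g' : Y' ⟶ B')

include iX iY iB g g' in
theorem repWith_isOpenImmersion_of_finThick
    (hcX : IsPullback iX.hom (f ≫ g).hom (f' ≫ g').hom iB.hom)
    (hcY : IsPullback iY.hom g.hom g'.hom iB.hom) (w : iX ≫ f' = f ≫ iY)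
    (hB : AlgSp.IsFinThickMor iB.hom) (hflat : AlgSp.LocP @Flat (f' ≫ g').hom)
    (hf : RepWith @IsOpenImmersion f.hom) : RepWith @IsOpenImmersion f'.hom := by
  have hthickB : AlgSp.IsThickMor iB.hom := by
    obtain ⟨n, h1, -⟩ := hB
    exact h1
  have hiX : AlgSp.IsThickMor iX.hom := Groth.Agent.H53.isThickMor_of_isPullback hcX.flip hthickB
  have hiY : AlgSp.IsThickMor iY.hom := Groth.Agent.H53.isThickMor_of_isPullback hcY.flip hthickB
  have het : IsEtaleMor f.hom := Groth.Agent.H53.isEtaleMor_of_isOpenImmersion f.hom hf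
  have het' : IsEtaleMor f'.hom :=
    ((Groth.Agent.S10596.result iX iY iB f f' g g' hcX hcY w hB hflat 0).2.2.2.2.2.2.2).1 het
  have hm : Mono f.hom := Groth.Agent.H53.mono_of_isOpenImmersion f.hom hf
  have hui : IsUnivInjectiveMor f.hom :=
    Groth.Agent.H53.ZMT.isUnivInjectiveMor_of_mono X.property f.hom
  have hui' : IsUnivInjectiveMor f'.hom :=
    ((Groth.Agent.S10587.result iX iY f f' hiX hiY w).2.2.2.1).1 hui
  exact Groth.Agent.H51.s10261 f' het' hui'

include iX iY iB g g' in
theorem isIso_of_finThick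
    (hcX : IsPullback iX.hom (f ≫ g).hom (f' ≫ g').hom iB.hom)
    (hcY : IsPullback iY.hom g.hom g'.hom iB.hom) (w : iX ≫ f' = f ≫ iY)
    (hB : AlgSp.IsFinThickMor iB.hom) (hflat : AlgSp.LocP @Flat (f' ≫ g').hom)
    (hf : IsIso f.hom) : IsIso f'.hom := by
  have hthickB : AlgSp.IsThickMor iB.hom := by
    obtain ⟨n, h1, -⟩ := hB
    exact h1
  have hiX : AlgSp.IsThickMor iX.hom := Groth.Agent.H53.isThickMor_of_isPullback hcX.flip hthickB
  have hiY : AlgSp.IsThickMor iY.hom := Groth.Agent.H53.isThickMor_of_isPullback hcY.flip hthickB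
  have hoi : RepWith @IsOpenImmersion f.hom := MorphismProperty.of_isIso (RepWith @IsOpenImmersion) f.hom
  have hoi' := repWith_isOpenImmersion_of_finThick iX iY iB f f' g g' hcX hcY w hB hflat hoi
  have hs : IsSurjectiveMor f.hom := by
    intro y
    refine ⟨Points.map (inv f.hom) y, ?_⟩
    rw [← Points.map_comp, IsIso.inv_hom_id, Points.map_id]
  have hs' : IsSurjectiveMor f'.hom :=
    ((Groth.Agent.S10587.result iX iY f f' hiX hiY w).1).1 hs
  exact Groth.Agent.H51.isIso_of_isOpenImmersion_of_surjective f'.hom hoi' hs'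

end Space

end Groth.Agent.H53.Deform
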