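import Groth.Agent.H53.Deform.Imm
import Groth.Agent.H53.ThickChart2
import Groth.Agent.H53.PowZero
import Groth.Agent.H51.SpBasic

/-!
# Locally finite order thickenings: finitely presented bijective closed immersions
-/

set_option autoImplicit false
universe u
open CategoryTheory CategoryTheory.Limits AlgebraicGeometry Opposite
open AlgSp

namespace Groth.Agent.H53.Deform

variable {S : Scheme.{u}}

/-- Variant of `locP_lft_of_finThick` where the order of the thickening may depend on the affine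
chart. -/
theorem locP_lft_of_locFinThick {X X' Y Y' : Sp S} {i : X ⟶ X'} {j : Y ⟶ Y'} {f : X ⟶ Y}
    {f' : X' ⟶ Y'} (hthick : IsThickMor i)
    (hpow : ∀ ⦃V W : Over S⦄ (b : (yon S).obj V ⟶ X') (fst : (yon S).obj W ⟶ X) (snd : W ⟶ V),
      IsAffine V.left → RepWith @Etale b → IsPullback fst ((yon S).map snd) i b →
      ∃ n : ℕ, powZero n snd.left)
    (hj : IsThickMor j) (hcart : IsPullback i f f' j)
    (hP : LocP @LocallyOfFiniteType f) : LocP @LocallyOfFiniteType f' := by
  intro U' V' a' b' h' ha' hb' hcomm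
  have : MorphismProperty.RespectsRight @LocallyOfFiniteType @IsOpenImmersion :=
    ⟨fun i hi f hf => by
      have : IsOpenImmersion i := hi
      have : LocallyOfFiniteType f := hf
      exact MorphismProperty.comp_mem _ f i hf inferInstance⟩
  rw [IsZariskiLocalAtSource.iff_exists_resLE (P := @LocallyOfFiniteType)]
  intro x
  obtain ⟨_, ⟨W', hW', rfl⟩, hxW', -⟩ :=
    V'.left.isBasis_affineOpens.exists_subset_of_mem_open (Set.mem_univ (h'.left x)) isOpen_univ
  obtain ⟨_, ⟨T', hT', rfl⟩, hxT', hTW : T' ≤ h'.left ⁻¹ᵁ W'⟩ :=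
    U'.left.isBasis_affineOpens.exists_subset_of_mem_open hxW' (h'.left ⁻¹ᵁ W').isOpen
  refine ⟨W', T', hxT', hTW, ?_⟩
  let T'S : Over S := Over.mk (Scheme.Opens.ι T' ≫ U'.hom)
  let W'S : Over S := Over.mk (Scheme.Opens.ι W' ≫ V'.hom)
  let ιT : T'S ⟶ U' := Over.homMk (Scheme.Opens.ι T') rfl
  let ιW : W'S ⟶ V' := Over.homMk (Scheme.Opens.ι W') rfl
  let h'' : T'S ⟶ W'S := Over.homMk (h'.left.resLE W' T' hTW) (by
    change h'.left.resLE W' T' hTW ≫ Scheme.Opens.ι W' ≫ V'.hom = Scheme.Opens.ι T' ≫ U'.hom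
    rw [Scheme.Hom.resLE_comp_ι_assoc, Over.w])
  have hh'' : h'' ≫ ιW = ιT ≫ h' := Over.OverMorphism.ext (Scheme.Hom.resLE_comp_ι _ _)
  have ha'' : RepWith @Etale ((yon S).map ιT ≫ a') :=
    repWith_etale_map_comp ιT (by change Etale (Scheme.Opens.ι T'); infer_instance) a' ha'
  have hb'' : RepWith @Etale ((yon S).map ιW ≫ b') :=
    repWith_etale_map_comp ιW (by change Etale (Scheme.Opens.ι W'); infer_instance) b' hb'
  have hcomm'' : ((yon S).map ιT ≫ a') ≫ f' = (yon S).map h'' ≫ ((yon S).map ιW ≫ b') := by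
    rw [Category.assoc, hcomm, ← Category.assoc, ← Functor.map_comp, ← hh'', Functor.map_comp,
      Category.assoc]
  obtain ⟨U, V, a, b, h, i₀, j₀, hae, hbe, hc, sqa, sqb, sq, hi₀, hj₀⟩ :=
    exists_thick_chart_square hthick hj hcart _ _ h'' ha'' hb'' hcomm''
  have hPh : LocallyOfFiniteType h.left := hP a b h hae hbe hc
  obtain ⟨n, hpow₀⟩ := hpow _ a i₀ hT' ha'' sqa
  have : IsClosedImmersion j₀.left := hj₀.1
  have : IsAffine (Scheme.Opens.toScheme T') := hT'
  have : IsAffine (Scheme.Opens.toScheme W') := hW'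
  exact locallyOfFiniteType_of_isPullback_powZero_affine sq n hpow₀

/-- A surjective closed immersion into an affine scheme which is locally of finite presentation
has finite order. -/
theorem exists_powZero_of_lfp {W V : Scheme.{u}} (i : W ⟶ V) [IsAffine V] [IsClosedImmersion i]
    [Surjective i] [LocallyOfFinitePresentation i] : ∃ n : ℕ, powZero n i := by
  have hW : IsAffine W := isAffine_of_isAffineHom i
  have hsurj : Function.Surjective i.appTop.hom :=
    (IsClosedImmersion.isAffine_surjective_of_isAffine i).2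
  have hfp : i.appTop.hom.FinitePresentation :=
    (HasRingHomProperty.iff_of_isAffine (P := @LocallyOfFinitePresentation)).1 inferInstance
  have hfg : (RingHom.ker i.appTop.hom).FG := by
    let _ : Algebra Γ(V, ⊤) Γ(W, ⊤) := i.appTop.hom.toAlgebra
    have hfp' : Algebra.FinitePresentation Γ(V, ⊤) Γ(W, ⊤) := hfp
    exact Algebra.FinitePresentation.ker_fG_of_surjective (Algebra.ofId Γ(V, ⊤) Γ(W, ⊤)) hsurj
  have hnil : RingHom.ker i.appTop.hom ≤ nilradical Γ(V, ⊤) := by
    rw [nilradical_eq_sInf, le_sInf_iff]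
    intro p hp
    have hp' : p.IsPrime := hp
    -- the point of `V` corresponding to `p` lifts to `W`
    let P : PrimeSpectrum Γ(V, ⊤) := ⟨p, hp'⟩
    obtain ⟨w, hw⟩ := i.surjective (V.isoSpec.inv P)
    have h1 : (i ≫ V.isoSpec.hom) w = P := by
      rw [Scheme.Hom.comp_apply, hw, ← Scheme.Hom.comp_apply, Iso.inv_hom_id]
      rfl
    have h2 : i ≫ V.isoSpec.hom = W.isoSpec.hom ≫ Spec.map i.appTop := by
      rw [Scheme.isoSpec_hom_naturality]
    rw [h2, Scheme.Hom.comp_apply] at h1
    intro z hz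
    have h3 : P.asIdeal = ((W.isoSpec.hom w).asIdeal).comap i.appTop.hom := by
      rw [← h1]; rfl
    change z ∈ P.asIdeal
    rw [h3, Ideal.mem_comap, RingHom.mem_ker.mp hz]
    exact Ideal.zero_mem _
  obtain ⟨n, hn⟩ := (Ideal.FG.isNilpotent_iff_le_nilradical hfg).2 hnil
  refine ⟨n, ?_⟩
  have : QuasiCompact i := inferInstance
  refine Groth.Agent.H53.ker_pow_eq_bot_of_ker_appTop i (n + 1) ?_
  rw [pow_succ, hn, zero_mul]
  rfl

end Groth.Agent.H53.Deform
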