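import Groth.Agent.H53.Deform.IsoOpen
import Groth.Agent.H49.AlgSpRep

/-!
# Deformation of monomorphisms along finite order thickenings (via the diagonal)
-/

set_option autoImplicit false
universe u
open CategoryTheory CategoryTheory.Limits AlgebraicGeometry Opposite
open AlgSp

namespace Groth.Agent.H53.Deform

variable {S : Scheme.{u}}

/-- Pure category theory: base change of the kernel pair. -/
theorem isPullback_kernelPair_map {C : Type*} [Category C] [HasPullbacks C] {X X' Y Y' : C}
    {iX : X ⟶ X'} {iY : Y ⟶ Y'} {f : X ⟶ Y} {f' : X' ⟶ Y'} (hcart : IsPullback iX f f' iY) :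
    IsPullback (pullback.map f f f' f' iX iX iY hcart.w.symm hcart.w.symm) (pullback.fst f f ≫ f)
      (pullback.fst f' f' ≫ f') iY := by
  have sqP := IsPullback.of_hasPullback f f
  have sqP' := IsPullback.of_hasPullback f' f'
  have big : IsPullback (pullback.snd f f ≫ iX) (pullback.fst f f) f' (f ≫ iY) :=
    sqP.flip.paste_horiz hcart
  have h1 : pullback.map f f f' f' iX iX iY hcart.w.symm hcart.w.symm ≫ pullback.fst f' f' =
      pullback.fst f f ≫ iX := pullback.lift_fst _ _ _
  have h2 : pullback.map f f f' f' iX iX iY hcart.w.symm hcart.w.symm ≫ pullback.snd f' f' =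
      pullback.snd f f ≫ iX := pullback.lift_snd _ _ _
  have big2 : IsPullback (pullback.map f f f' f' iX iX iY hcart.w.symm hcart.w.symm ≫
      pullback.snd f' f') (pullback.fst f f) f' (iX ≫ f') := by
    rw [h2, hcart.w]; exact big
  have left : IsPullback (pullback.map f f f' f' iX iX iY hcart.w.symm hcart.w.symm) (pullback.fst f f)
      (pullback.fst f' f') iX := IsPullback.of_right big2 h1 sqP'.flip
  exact left.paste_vert hcart

section Space

variable {X X' Y Y' B B' : AlgSp.Space S} (iX : X ⟶ X') (iY : Y ⟶ Y') (iB : B ⟶ B')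
  (f : X ⟶ Y) (f' : X' ⟶ Y') (g : Y ⟶ B) (g' : Y' ⟶ B')

include iX iY iB g g' in
theorem mono_of_finThick
    (hcX : IsPullback iX.hom (f ≫ g).hom (f' ≫ g').hom iB.hom)
    (hcY : IsPullback iY.hom g.hom g'.hom iB.hom) (w : iX ≫ f' = f ≫ iY)
    (hB : AlgSp.IsFinThickMor iB.hom) (hflat : AlgSp.LocP @Flat (f' ≫ g').hom)
    (hf : Mono f.hom) : Mono f'.hom := by
  have w' : iX.hom ≫ f'.hom = f.hom ≫ iY.hom := congrArg (fun t => t.hom) w
  have hcart : IsPullback iX.hom f.hom f'.hom iY.hom :=
    (IsPullback.of_right hcX.flip w'.symm hcY.flip).flip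
  have sqP := IsPullback.of_hasPullback f.hom f.hom
  have sqP' := IsPullback.of_hasPullback f'.hom f'.hom
  have hPalg : IsAlgSpace (pullback f.hom f.hom) :=
    Groth.Agent.H49.isAlgSpace_of_isPullback sqP Y.property.diag X.property X.property
  have hP'alg : IsAlgSpace (pullback f'.hom f'.hom) :=
    Groth.Agent.H49.isAlgSpace_of_isPullback sqP' Y'.property.diag X'.property X'.property
  let P : AlgSp.Space S := ⟨pullback f.hom f.hom, hPalg⟩
  let P' : AlgSp.Space S := ⟨pullback f'.hom f'.hom, hP'alg⟩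
  let iP : P ⟶ P' := ObjectProperty.homMk
    (pullback.map f.hom f.hom f'.hom f'.hom iX.hom iX.hom iY.hom hcart.w.symm hcart.w.symm)
  let Δ : X ⟶ P := ObjectProperty.homMk (pullback.diagonal f.hom)
  let Δ' : X' ⟶ P' := ObjectProperty.homMk (pullback.diagonal f'.hom)
  let gP : P ⟶ B := ObjectProperty.homMk ((pullback.fst f.hom f.hom ≫ f.hom) ≫ g.hom)
  let gP' : P' ⟶ B' := ObjectProperty.homMk ((pullback.fst f'.hom f'.hom ≫ f'.hom) ≫ g'.hom)
  have hcP : IsPullback iP.hom gP.hom gP'.hom iB.hom :=
    (isPullback_kernelPair_map hcart).paste_vert hcY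
  have e1 : (Δ ≫ gP).hom = (f ≫ g).hom := by
    show pullback.diagonal f.hom ≫ (pullback.fst f.hom f.hom ≫ f.hom) ≫ g.hom = f.hom ≫ g.hom
    simp
  have e2 : (Δ' ≫ gP').hom = (f' ≫ g').hom := by
    show pullback.diagonal f'.hom ≫ (pullback.fst f'.hom f'.hom ≫ f'.hom) ≫ g'.hom =
      f'.hom ≫ g'.hom
    simp
  have hcX' : IsPullback iX.hom (Δ ≫ gP).hom (Δ' ≫ gP').hom iB.hom := by
    rw [e1, e2]; exact hcX
  have wΔ : iX ≫ Δ' = Δ ≫ iP := by
    apply ObjectProperty.hom_ext
    show iX.hom ≫ pullback.diagonal f'.hom = pullback.diagonal f.hom ≫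
      pullback.map f.hom f.hom f'.hom f'.hom iX.hom iX.hom iY.hom hcart.w.symm hcart.w.symm
    apply pullback.hom_ext
    · rw [Category.assoc, Category.assoc, pullback.diagonal_fst]
      erw [pullback.lift_fst]
      rw [← Category.assoc, pullback.diagonal_fst, Category.comp_id, Category.id_comp]
    · rw [Category.assoc, Category.assoc, pullback.diagonal_snd]
      erw [pullback.lift_snd]
      rw [← Category.assoc, pullback.diagonal_snd, Category.comp_id, Category.id_comp]
  have hflat' : AlgSp.LocP @Flat (Δ' ≫ gP').hom := by rw [e2]; exact hflat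
  have hΔ : IsIso Δ.hom := by
    show IsIso (pullback.diagonal f.hom)
    infer_instance
  have hΔ' : IsIso (pullback.diagonal f'.hom) :=
    isIso_of_finThick iX iP iB Δ Δ' gP gP' hcX' hcP wΔ hB hflat' hΔ
  have : IsIso (pullback.fst f'.hom f'.hom) := by
    have h1 : IsIso (pullback.diagonal f'.hom ≫ pullback.fst f'.hom f'.hom) := by
      rw [pullback.diagonal_fst]; infer_instance
    exact IsIso.of_isIso_comp_left (pullback.diagonal f'.hom) _
  exact IsKernelPair.mono_of_isIso_fst sqP'

end Space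

end Groth.Agent.H53.Deform
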